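import Mathlib.RingTheory.AdicCompletion.Basic
import Mathlib.RingTheory.Finiteness.Ideal
import Mathlib.RingTheory.Ideal.Operations
import Mathlib.LinearAlgebra.Finsupp.LinearCombination

/-!
Limits of inverse systems `M n` with surjective transition maps whose kernels are
`I ^ (n + 1) M (n + 1)`.
-/

namespace Groth.Agent.AdicLimH7

open Pointwise

universe u v

/-- The hypotheses on the system and its limit. -/
structure Sys {A : Type u} [CommRing A] (I : Ideal A) (M : ℕ → Type v) [∀ n, AddCommGroup (M n)]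
    [∀ n, Module A (M n)] (f : ∀ n, M (n + 1) →ₗ[A] M n) (L : Type v) [AddCommGroup L] [Module A L]
    (π : ∀ n, L →ₗ[A] M n) : Prop where
  hf : ∀ n, Function.Surjective (f n)
  hker : ∀ n, LinearMap.ker (f n) = I ^ (n + 1) • (⊤ : Submodule A (M (n + 1)))
  hπ : ∀ n, f n ∘ₗ π (n + 1) = π n
  hinj : ∀ x : L, (∀ n, π n x = 0) → x = 0
  hlift : ∀ y : (∀ n, M n), (∀ n, f n (y (n + 1)) = y n) → ∃ x : L, ∀ n, π n x = y n

variable {A : Type u} [CommRing A] {I : Ideal A} {M : ℕ → Type v} [∀ n, AddCommGroup (M n)]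
  [∀ n, Module A (M n)] {f : ∀ n, M (n + 1) →ₗ[A] M n} {L : Type v} [AddCommGroup L] [Module A L]
  {π : ∀ n, L →ₗ[A] M n}

theorem Sys.comm (h : Sys I M f L π) (n : ℕ) (x : L) : f n (π (n + 1) x) = π n x :=
  LinearMap.congr_fun (h.hπ n) x

theorem exists_compatible (hf : ∀ n, Function.Surjective (f n)) :
    ∀ (n : ℕ) (y : M n), ∃ z : (∀ m, M m), (∀ m, f m (z (m + 1)) = z m) ∧ z n = y := by
  intro n
  induction n with
  | zero =>
    intro y
    let z : ∀ m, M m := fun m => Nat.rec (motive := M) y (fun j w => Classical.choose (hf j w)) m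
    exact ⟨z, fun m => Classical.choose_spec (hf m (z m)), rfl⟩
  | succ n ih =>
    intro y
    obtain ⟨z₀, hz, hzn⟩ := ih (f n y)
    let z' : (j : ℕ) → M (n + 1 + j) := fun j =>
      Nat.rec (motive := fun j => M (n + 1 + j)) y (fun j w => Classical.choose (hf (n + 1 + j) w)) j
    have hz' : ∀ j, f (n + 1 + j) (z' (j + 1)) = z' j := fun j =>
      Classical.choose_spec (hf (n + 1 + j) (z' j))
    let e : ∀ m, n + 1 ≤ m → M m := fun m hm => (show n + 1 + (m - (n + 1)) = m by omega) ▸ z' (m - (n + 1))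
    have he : ∀ j m (h : n + 1 + j = m) (hm : n + 1 ≤ m), e m hm = h ▸ z' j := by
      intro j m h hm
      subst h
      simp only [e]
      have : n + 1 + j - (n + 1) = j := by omega
      rw [eqRec_eq_cast, cast_eq_iff_heq]
      rw [this]
    refine ⟨fun m => if hm : n + 1 ≤ m then e m hm else z₀ m, fun m => ?_, ?_⟩
    · by_cases hm : n + 1 ≤ m
      · obtain ⟨j, rfl⟩ := Nat.exists_eq_add_of_le hm
        beta_reduce
        rw [dif_pos (by omega : n + 1 ≤ n + 1 + j + 1), dif_pos (by omega : n + 1 ≤ n + 1 + j), he (j + 1) (n + 1 + j + 1) rfl (by omega), he j (n + 1 + j) rfl (by omega)]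
        exact hz' j
      · beta_reduce
        rw [dif_neg hm]
        by_cases hm' : m = n
        · subst hm'
          rw [dif_pos (le_refl (m + 1)), he 0 (m + 1) rfl le_rfl, hzn]
          rfl
        · rw [dif_neg (by omega)]
          exact hz m
    · simp only [le_refl, dite_true]
      exact he 0 (n + 1) rfl le_rfl

theorem Sys.surjective (h : Sys I M f L π) (n : ℕ) : Function.Surjective (π n) := fun y => by
  obtain ⟨z, hz, rfl⟩ := exists_compatible h.hf n y
  obtain ⟨x, hx⟩ := h.hlift z hz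
  exact ⟨x, hx n⟩

theorem Sys.smul_top_eq_bot (h : Sys I M f L π) (n : ℕ) :
    I ^ (n + 1) • (⊤ : Submodule A (M n)) = ⊥ := by
  rw [← LinearMap.range_eq_top.2 (h.hf n), ← Submodule.map_top, ← Submodule.map_smul'',
    ← h.hker n, eq_bot_iff]
  rintro _ ⟨x, hx, rfl⟩
  exact hx

theorem Sys.eq_zero_of_mem (h : Sys I M f L π) {n k : ℕ} (hk : n + 1 ≤ k) {x : L}
    (hx : x ∈ I ^ k • (⊤ : Submodule A L)) : π n x = 0 := by
  have := Submodule.mem_map_of_mem (f := π n) hx
  rw [Submodule.map_smul''] at this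
  have h2 : π n x ∈ I ^ (n + 1) • (⊤ : Submodule A (M n)) :=
    Submodule.smul_mono (Ideal.pow_le_pow_right hk) le_top this
  rwa [h.smul_top_eq_bot, Submodule.mem_bot] at h2

theorem Sys.ker_le_succ (h : Sys I M f L π) {n m : ℕ} (hm : n ≤ m) {x : L} (hx : π n x = 0) :
    π m x = 0 → ∃ r ∈ I ^ (m + 1) • (⊤ : Submodule A L), π (m + 1) (x - r) = 0 := by
  intro hxm
  have h1 : π (m + 1) x ∈ I ^ (m + 1) • (⊤ : Submodule A (M (m + 1))) := by
    rw [← h.hker m, LinearMap.mem_ker, h.comm, hxm]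
  rw [← LinearMap.range_eq_top.2 (h.surjective (m + 1)), ← Submodule.map_top,
    ← Submodule.map_smul''] at h1
  obtain ⟨r, hr, hrx⟩ := h1
  exact ⟨r, hr, by rw [map_sub, hrx, sub_self]⟩

theorem Sys.pi_eq_zero_of_le (h : Sys I M f L π) {n m : ℕ} (hnm : n ≤ m) {x : L}
    (hx : π m x = 0) : π n x = 0 := by
  induction m, hnm using Nat.le_induction with
  | base => exact hx
  | succ k hk ih => exact ih (by rw [← h.comm, hx, map_zero])

/-- Series with `k`-th term in `I ^ k L` converge. -/
theorem Sys.exists_sum (h : Sys I M f L π) (c : ℕ → L)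
    (hc : ∀ k, c k ∈ I ^ k • (⊤ : Submodule A L)) :
    ∃ C, ∀ m, π m C = π m (∑ k ∈ Finset.range (m + 1), c k) := by
  refine h.hlift (fun m => π m (∑ k ∈ Finset.range (m + 1), c k)) fun m => ?_
  show f m (π (m + 1) _) = _
  rw [h.comm, Finset.sum_range_succ c (m + 1), map_add, h.eq_zero_of_mem le_rfl (hc (m + 1)), add_zero]

theorem Sys.sum_eq (h : Sys I M f L π) {c : ℕ → L}
    (hc : ∀ k, c k ∈ I ^ k • (⊤ : Submodule A L)) {m N : ℕ} (hN : m + 1 ≤ N) :
    π m (∑ k ∈ Finset.range N, c k) = π m (∑ k ∈ Finset.range (m + 1), c k) := by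
  induction N, hN using Nat.le_induction with
  | base => rfl
  | succ k hk ih => rw [Finset.sum_range_succ, map_add, ih, h.eq_zero_of_mem hk (hc k), add_zero]

theorem Sys.ker_eq (h : Sys I M f L π) (hI : I.FG) (n : ℕ) :
    LinearMap.ker (π n) = I ^ (n + 1) • (⊤ : Submodule A L) := by
  refine le_antisymm (fun x hx => ?_) fun x hx => h.eq_zero_of_mem le_rfl hx
  obtain ⟨s, hs⟩ := hI.pow (n := n + 1)
  have hstep : ∀ k (y : L), π n y = 0 → π (n + k) y = 0 →
      ∃ r ∈ I ^ (n + k + 1) • (⊤ : Submodule A L), π (n + (k + 1)) (y - r) = 0 :=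
    fun k y hy hyk => h.ker_le_succ (Nat.le_add_right n k) hy hyk
  have hstep' : ∀ k (y : {y : L // π (n + k) y = 0}),
      ∃ y' : {y : L // π (n + (k + 1)) y = 0},
        y.1 - y'.1 ∈ I ^ (n + k + 1) • (⊤ : Submodule A L) := fun k y => by
    obtain ⟨r, hr, hy'⟩ := hstep k y.1 (h.pi_eq_zero_of_le (Nat.le_add_right n k) y.2) y.2
    exact ⟨⟨y.1 - r, hy'⟩, by simpa using hr⟩
  choose g hg using hstep'
  let r : (k : ℕ) → {y : L // π (n + k) y = 0} := fun k => Nat.rec ⟨x, hx⟩ (fun j y => g j y) k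
  have hdec : ∀ k, ∃ c : s → L, (∀ i, c i ∈ I ^ k • (⊤ : Submodule A L)) ∧
      ∑ i : s, (i : A) • c i = (r k).1 - (r (k + 1)).1 := by
    intro k
    have h1 : (r k).1 - (r (k + 1)).1 ∈ I ^ (n + k + 1) • (⊤ : Submodule A L) := hg k (r k)
    rw [show n + k + 1 = (n + 1) + k by ring, pow_add, ← hs, ← Ideal.smul_eq_mul,
      Submodule.smul_assoc, Submodule.span_smul_eq] at h1
    clear hs
    have : ∀ z ∈ (s : Set A) • (I ^ k • (⊤ : Submodule A L) : Submodule A L),
        ∃ c : s → L, (∀ i, c i ∈ I ^ k • (⊤ : Submodule A L)) ∧ ∑ i : s, (i : A) • c i = z := by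
      intro z hz
      classical
      induction z, hz using Submodule.set_smul_inductionOn with
      | @smul₀ a w ha hw =>
        refine ⟨fun i => if i = ⟨a, ha⟩ then w else 0, fun i => ?_, ?_⟩
        · by_cases hi : i = ⟨a, ha⟩
          · simpa [hi] using hw
          · simp [hi]
        · rw [Finset.sum_eq_single ⟨a, ha⟩]
          · simp
          · intro b _ hb; simp [hb]
          · simp
      | smul₁ b _ hz =>
        obtain ⟨c, hc, hcz⟩ := hz
        refine ⟨fun i => b • c i, fun i => Submodule.smul_mem _ b (hc i), ?_⟩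
        simp only [smul_comm _ b, ← Finset.smul_sum, hcz]
      | add _ _ hz hz' =>
        obtain ⟨c, hc, hcz⟩ := hz
        obtain ⟨c', hc', hcz'⟩ := hz'
        exact ⟨fun i => c i + c' i, fun i => add_mem (hc i) (hc' i), by
          rw [← hcz, ← hcz', ← Finset.sum_add_distrib]; simp only [smul_add]⟩
      | zero => exact ⟨0, fun i => zero_mem _, by simp⟩
    exact this _ h1
  choose c hc hcs using hdec
  choose C hC using fun i => h.exists_sum (fun k => c k i) (fun k => hc k i)
  have hmem : ∑ i : s, (i : A) • C i ∈ I ^ (n + 1) • (⊤ : Submodule A L) :=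
    Submodule.sum_mem _ fun i _ => Submodule.smul_mem_smul (hs ▸ Ideal.subset_span i.2) Submodule.mem_top
  suffices heq : x = ∑ i : s, (i : A) • C i by rw [heq]; exact hmem
  rw [← sub_eq_zero]
  refine h.hinj _ fun m => ?_
  have hsum : ∀ N, ∑ i : s, (i : A) • (∑ k ∈ Finset.range N, c k i) = x - (r N).1 := by
    intro N
    induction N with
    | zero => simp [r]
    | succ N ih =>
      simp only [Finset.sum_range_succ, smul_add, Finset.sum_add_distrib, ih, hcs]
      abel
  have h2 := congrArg (π m) (hsum (m + 1))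
  rw [map_sub, h.pi_eq_zero_of_le (show m ≤ n + (m + 1) by omega) (r (m + 1)).2, sub_zero] at h2
  rw [map_sub, ← h2, sub_eq_zero]
  simp only [map_sum, map_smul, hC]

theorem Sys.isAdicComplete (h : Sys I M f L π) (hI : I.FG) : IsAdicComplete I L := by
  refine { haus' := fun x hx => h.hinj x fun n => ?_, prec' := fun g hg => ?_ }
  · exact h.eq_zero_of_mem le_rfl (by simpa [SModEq.zero] using hx (n + 1))
  · have hd : ∀ k, g (k + 1) - g k ∈ I ^ k • (⊤ : Submodule A L) := fun k => by
      rw [← SModEq.sub_mem]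
      exact (hg (Nat.le_succ k)).symm
    obtain ⟨C, hC⟩ := h.exists_sum _ hd
    refine ⟨g 0 + C, fun n => ?_⟩
    rcases n with _ | n
    · rw [SModEq.sub_mem, pow_zero, Ideal.one_eq_top, Submodule.top_smul]
      trivial
    · rw [SModEq.sub_mem, ← h.ker_eq hI n, LinearMap.mem_ker, map_sub, map_add, hC, ← map_add,
        Finset.sum_range_sub]
      simp

theorem Sys.finite (h : Sys I M f L π) (hI : I.FG) [IsPrecomplete I A] [Module.Finite A (M 0)] :
    Module.Finite A L := by
  obtain ⟨r, b, hb⟩ := Module.Finite.exists_fin (R := A) (M := M 0)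
  choose l hl using fun i => h.surjective 0 (b i)
  have hgen : ∀ y : L, ∃ a : Fin r → A, y - ∑ i, a i • l i ∈ I • (⊤ : Submodule A L) := by
    intro y
    have hy : π 0 y ∈ Submodule.span A (Set.range b) := hb ▸ Submodule.mem_top
    obtain ⟨a, ha⟩ := (Submodule.mem_span_range_iff_exists_fun A).1 hy
    refine ⟨a, ?_⟩
    have := h.ker_eq hI 0
    rw [zero_add, pow_one] at this
    rw [← this, LinearMap.mem_ker, map_sub, map_sum, ← ha, sub_eq_zero]
    simp [hl]
  have hstep : ∀ k, ∀ y ∈ I ^ k • (⊤ : Submodule A L), ∃ a : Fin r → A, (∀ i, a i ∈ I ^ k) ∧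
      y - ∑ i, a i • l i ∈ I ^ (k + 1) • (⊤ : Submodule A L) := by
    intro k y hy
    induction hy using Submodule.smul_induction_on' with
    | smul t ht z _ =>
      obtain ⟨a, ha⟩ := hgen z
      refine ⟨fun i => t * a i, fun i => Ideal.mul_mem_right _ _ ht, ?_⟩
      rw [pow_succ, ← Ideal.smul_eq_mul, Submodule.smul_assoc]
      simp only [mul_smul, ← Finset.smul_sum, ← smul_sub]
      exact Submodule.smul_mem_smul ht ha
    | add y _ z _ hy hz =>
      obtain ⟨a, ha, ha'⟩ := hy
      obtain ⟨a', ha2, ha2'⟩ := hz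
      refine ⟨fun i => a i + a' i, fun i => add_mem (ha i) (ha2 i), ?_⟩
      simp only [add_smul, Finset.sum_add_distrib, add_sub_add_comm]
      exact add_mem ha' ha2'
  choose g hga hg using hstep
  classical
  refine ⟨⟨Finset.univ.image l, ?_⟩⟩
  rw [Finset.coe_image, Finset.coe_univ, Set.image_univ, eq_top_iff]
  rintro x -
  let y : (k : ℕ) → {z : L // z ∈ I ^ k • (⊤ : Submodule A L)} := fun k =>
    Nat.rec ⟨x, by simp⟩ (fun j z => ⟨z.1 - ∑ i, g j z.1 z.2 i • l i, hg j z.1 z.2⟩) k
  let T : Fin r → ℕ → A := fun i N => ∑ k ∈ Finset.range N, g k (y k).1 (y k).2 i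
  have hT : ∀ i, ∀ {m n : ℕ}, m ≤ n → T i m ≡ T i n [SMOD (I ^ m • ⊤ : Submodule A A)] := by
    intro i m n hmn
    rw [SModEq.comm, SModEq.sub_mem, smul_eq_mul, Ideal.mul_top]
    induction n, hmn using Nat.le_induction with
    | base => simp
    | succ n hn ih =>
      simp only [T, Finset.sum_range_succ] at ih ⊢
      rw [add_sub_right_comm]
      exact add_mem ih (Ideal.pow_le_pow_right hn (hga n _ _ i))
  choose Ti hTi using fun i => IsPrecomplete.prec' (I := I) (T i) (hT i)
  rw [Submodule.mem_span_range_iff_exists_fun]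
  refine ⟨Ti, sub_eq_zero.1 (h.hinj _ fun m => h.eq_zero_of_mem le_rfl ?_)⟩
  have hy : ∀ N, x - ∑ i, T i N • l i = (y N).1 := by
    intro N
    induction N with
    | zero => simp [T, y]
    | succ N ih =>
      show _ = (y N).1 - ∑ i, g N (y N).1 (y N).2 i • l i
      calc x - ∑ i, T i (N + 1) • l i
          = (x - ∑ i, T i N • l i) - ∑ i, g N (y N).1 (y N).2 i • l i := by
            simp only [T, Finset.sum_range_succ, add_smul, Finset.sum_add_distrib]
            abel
        _ = _ := by rw [ih]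
  have h1 : ∑ i, Ti i • l i - x = ∑ i, (Ti i - T i (m + 1)) • l i - (y (m + 1)).1 := by
    rw [← hy]
    simp only [sub_smul, Finset.sum_sub_distrib]
    abel
  rw [h1]
  refine sub_mem (Submodule.sum_mem _ fun i _ => Submodule.smul_mem_smul ?_ Submodule.mem_top) (y (m + 1)).2
  have := (hTi i (m + 1)).symm
  rwa [SModEq.sub_mem, smul_eq_mul, Ideal.mul_top] at this

end Groth.Agent.AdicLimH7
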