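import Groth.Agent.Lib.AdicLimH7.Basic
import Mathlib.LinearAlgebra.Pi
import Mathlib.LinearAlgebra.StdBasis
import Mathlib.RingTheory.Finiteness.Basic
import Mathlib.RingTheory.Finiteness.Cardinality
import Mathlib.Algebra.Module.Projective
import Mathlib.LinearAlgebra.Quotient.Basic

/-!
Limits of systems of finite or finite projective modules over a complete base.
-/

namespace Groth.Agent.AdicLimH7

open Pointwise

universe u v

variable {A : Type u} [CommRing A] {I : Ideal A} {M : ℕ → Type v} [∀ n, AddCommGroup (M n)]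
  [∀ n, Module A (M n)] {f : ∀ n, M (n + 1) →ₗ[A] M n} {L : Type v} [AddCommGroup L] [Module A L]
  {π : ∀ n, L →ₗ[A] M n}

theorem pow_chain_mem {a : ℕ → A} {k : ℕ} (h : ∀ m, a (m + 1) - a m ∈ I ^ (k + m)) {m n : ℕ}
    (hmn : m ≤ n) : a n - a m ∈ I ^ (k + m) := by
  induction n, hmn using Nat.le_induction with
  | base => simp
  | succ j hj ih =>
    have := add_mem (Ideal.pow_le_pow_right (show k + m ≤ k + j by omega) (h j)) ih
    rwa [show a (j + 1) - a j + (a j - a m) = a (j + 1) - a m by ring] at this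

theorem exists_limit [IsPrecomplete I A] (a : ℕ → A) (k : ℕ)
    (h : ∀ m, a (m + 1) - a m ∈ I ^ (k + m)) : ∃ L : A, ∀ m, L - a m ∈ I ^ (k + m) := by
  obtain ⟨l, hl⟩ := IsPrecomplete.prec' (I := I) (M := A) a fun {m n} hmn => by
    rw [SModEq.sub_mem, smul_eq_mul, Ideal.mul_top, ← neg_mem_iff, neg_sub]
    exact Ideal.pow_le_pow_right (Nat.le_add_left m k) (pow_chain_mem h hmn)
  refine ⟨l, fun m => ?_⟩
  have h1 := hl (k + m)
  rw [SModEq.sub_mem, smul_eq_mul, Ideal.mul_top] at h1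
  have := add_mem (neg_mem h1) (pow_chain_mem h (Nat.le_add_left m k))
  rwa [show -(a (k + m) - l) + (a (k + m) - a m) = l - a m by ring] at this

theorem exists_coords {t : ℕ} {J : Ideal A} {b : Fin t → A}
    (h : b ∈ J • (⊤ : Submodule A (Fin t → A))) (i : Fin t) : b i ∈ J := by
  have := Submodule.mem_map_of_mem (f := LinearMap.proj i) h
  rw [Submodule.map_smul''] at this
  have h2 := Submodule.smul_mono (le_refl J) le_top this
  rwa [smul_eq_mul, Ideal.mul_top] at h2

theorem mem_smul_of_coords {t : ℕ} {J : Ideal A} {b : Fin t → A} (h : ∀ i, b i ∈ J) :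
    b ∈ J • (⊤ : Submodule A (Fin t → A)) := by
  classical
  rw [pi_eq_sum_univ b]
  exact Submodule.sum_mem _ fun i _ => Submodule.smul_mem_smul (h i) Submodule.mem_top

theorem Sys.range_eq_top (h : Sys I M f L π) {t : ℕ} (φ : (Fin t → A) →ₗ[A] L)
    (h0 : LinearMap.range (π 0 ∘ₗ φ) = ⊤) (n : ℕ) : LinearMap.range (π n ∘ₗ φ) = ⊤ := by
  induction n with
  | zero => exact h0
  | succ n ih =>
    let N := LinearMap.range (π (n + 1) ∘ₗ φ)
    have hsup : N ⊔ I ^ (n + 1) • (⊤ : Submodule A (M (n + 1))) = ⊤ := by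
      rw [← h.hker n, eq_top_iff]
      intro y _
      obtain ⟨a, ha⟩ := LinearMap.range_eq_top.mp ih (f n y)
      refine Submodule.mem_sup.mpr ⟨π (n + 1) (φ a), ⟨a, rfl⟩, y - π (n + 1) (φ a), ?_, by abel⟩
      rw [LinearMap.mem_ker, map_sub, h.comm, ← ha]
      simp
    refine top_le_iff.mp (hsup.ge.trans (sup_le le_rfl ?_))
    refine (Submodule.smul_mono le_rfl hsup.ge).trans ?_
    rw [Submodule.smul_sup]
    refine sup_le Submodule.smul_le_right ?_
    rw [← Submodule.mul_smul, ← pow_add]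
    refine le_trans (Submodule.smul_mono (Ideal.pow_le_pow_right
      (show n + 1 + 1 ≤ n + 1 + (n + 1) by omega)) le_rfl) ?_
    rw [h.smul_top_eq_bot (n + 1)]
    exact bot_le

theorem Sys.exists_approx [IsAdicComplete I A] (h : Sys I M f L π) {t : ℕ}
    (φ : (Fin t → A) →ₗ[A] L) (h0 : LinearMap.range (π 0 ∘ₗ φ) = ⊤) (n : ℕ) {y : L}
    (hy : π n y = 0) : ∃ a : Fin t → A, (∀ i, a i ∈ I ^ (n + 1)) ∧ φ a = y := by
  classical
  have step : ∀ m (z : L), π m z = 0 →
      ∃ b : Fin t → A, (∀ i, b i ∈ I ^ (m + 1)) ∧ π (m + 1) (z - φ b) = 0 := by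
    intro m z hz
    have h1 : π (m + 1) z ∈ I ^ (m + 1) • (⊤ : Submodule A (M (m + 1))) := by
      rw [← h.hker m, LinearMap.mem_ker, h.comm, hz]
    rw [← h.range_eq_top φ h0 (m + 1), ← Submodule.map_top, ← Submodule.map_smul''] at h1
    obtain ⟨b, hb, hbz⟩ := h1
    exact ⟨b, exists_coords hb, by rw [map_sub, sub_eq_zero]; exact hbz.symm⟩
  choose b hb hbz using step
  let seq : ∀ k : ℕ, {a : Fin t → A // π (n + k) (y - φ a) = 0} := fun k =>
    Nat.rec ⟨0, by simpa using hy⟩ (fun k ih => ⟨ih.1 + b (n + k) _ ih.2, by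
      rw [map_add, ← sub_sub]; exact hbz (n + k) _ ih.2⟩) k
  have hdiff : ∀ i k, (seq (k + 1)).1 i - (seq k).1 i ∈ I ^ (n + 1 + k) := fun i k => by
    show ((seq k).1 + b (n + k) _ (seq k).2) i - (seq k).1 i ∈ _
    rw [Pi.add_apply, add_sub_cancel_left, show n + 1 + k = n + k + 1 by omega]
    exact hb _ _ _ i
  choose a ha using fun i => exists_limit (I := I) (fun k => (seq k).1 i) (n + 1) (hdiff i)
  refine ⟨a, fun i => by simpa [seq] using ha i 0, ?_⟩
  refine sub_eq_zero.mp (h.hinj _ fun m => h.pi_eq_zero_of_le (Nat.le_add_left m n) ?_)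
  have hmem : φ (a - (seq m).1) ∈ I ^ (n + 1 + m) • (⊤ : Submodule A L) := by
    refine Submodule.smul_mono le_rfl le_top (Submodule.map_smul'' (I ^ (n + 1 + m)) ⊤ φ ▸
      Submodule.mem_map_of_mem (f := φ) (mem_smul_of_coords fun i => ha i m))
  have h2 := h.eq_zero_of_mem (n := n + m) (by omega) hmem
  have h3 := (seq m).2
  simp only [map_sub] at h2 h3 ⊢
  rw [sub_eq_zero] at h2 h3 ⊢
  rw [h2, h3]

theorem Sys.finite_complete [IsAdicComplete I A] (h : Sys I M f L π) (h0 : Module.Finite A (M 0)) :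
    ∃ (t : ℕ) (φ : (Fin t → A) →ₗ[A] L), Function.Surjective φ ∧
      LinearMap.range (π 0 ∘ₗ φ) = ⊤ ∧ IsAdicComplete I L ∧
      ∀ n, LinearMap.ker (π n) = I ^ (n + 1) • (⊤ : Submodule A L) := by
  classical
  obtain ⟨t, g, hg⟩ := Module.Finite.exists_fin' A (M 0)
  choose x hx using fun i => h.surjective 0 (g (Pi.single i 1))
  let φ : (Fin t → A) →ₗ[A] L := Fintype.linearCombination A x
  have hφ : π 0 ∘ₗ φ = g := by
    refine LinearMap.pi_ext fun i c => ?_
    show π 0 (Fintype.linearCombination A x (Pi.single i c)) = _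
    rw [Fintype.linearCombination_apply_single, map_smul, hx, ← map_smul, ← Pi.single_smul, smul_eq_mul,
      mul_one]
  have hr : LinearMap.range (π 0 ∘ₗ φ) = ⊤ := hφ ▸ LinearMap.range_eq_top.mpr hg
  have hker : ∀ n, LinearMap.ker (π n) = I ^ (n + 1) • (⊤ : Submodule A L) := fun n => by
    refine le_antisymm (fun y hy => ?_) fun y hy => h.eq_zero_of_mem le_rfl hy
    obtain ⟨a, ha, rfl⟩ := h.exists_approx φ hr n hy
    exact Submodule.smul_mono le_rfl le_top (Submodule.map_smul'' (I ^ (n + 1)) ⊤ φ ▸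
      Submodule.mem_map_of_mem (f := φ) (mem_smul_of_coords ha))
  refine ⟨t, φ, fun y => ?_, hr, { haus' := fun z hz => ?_, prec' := fun z hz => ?_ }, hker⟩
  · obtain ⟨a, ha⟩ := LinearMap.range_eq_top.mp hr (π 0 y)
    obtain ⟨a', -, ha'⟩ := h.exists_approx φ hr 0 (y := y - φ a) (by
      rw [map_sub, ← ha]; simp)
    exact ⟨a + a', by rw [map_add, ha', add_sub_cancel]⟩
  · exact h.hinj z fun n => h.eq_zero_of_mem le_rfl (SModEq.zero.mp (hz (n + 1)))
  · obtain ⟨l, hl⟩ := h.hlift (fun n => π n (z (n + 1))) fun n => by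
      rw [h.comm, ← sub_eq_zero, ← map_sub]
      exact h.eq_zero_of_mem le_rfl (by
        have := SModEq.sub_mem.mp (hz (Nat.le_succ (n + 1)))
        rw [← neg_mem_iff, neg_sub]
        exact this)
    refine ⟨l, fun n => SModEq.sub_mem.mpr ?_⟩
    rcases n with _ | n
    · simp
    · rw [← hker n, LinearMap.mem_ker, map_sub, hl, sub_self]

theorem Sys.projective [IsAdicComplete I A] (h : Sys I M f L π)
    (hproj : ∀ n, ∃ (m : ℕ) (i : M n →ₗ[A] (Fin m → A ⧸ I ^ (n + 1)))
      (r : (Fin m → A ⧸ I ^ (n + 1)) →ₗ[A] M n), r ∘ₗ i = LinearMap.id) :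
    Module.Finite A L ∧ Module.Projective A L ∧
      ∀ n, Function.Surjective (π n) ∧ LinearMap.ker (π n) = I ^ (n + 1) • (⊤ : Submodule A L) := by
  classical
  have h0 : Module.Finite A (M 0) := by
    obtain ⟨m, i, r, hr⟩ := hproj 0
    exact Module.Finite.of_surjective r fun y => ⟨i y, congr($hr y)⟩
  obtain ⟨t, φ, hφ, hr0, -, hker⟩ := h.finite_complete h0
  refine ⟨Module.Finite.of_surjective φ hφ, ?_, fun n => ⟨h.surjective n, hker n⟩⟩
  let Q : ℕ → Type u := fun n => Fin t → A ⧸ I ^ (n + 1)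
  let mk : ∀ n, (Fin t → A) →ₗ[A] Q n := fun n =>
    LinearMap.pi fun i => (Submodule.mkQ (I ^ (n + 1))).comp (LinearMap.proj i)
  have hmk : ∀ n, Function.Surjective (mk n) := fun n q => by
    choose a ha using fun i => Submodule.mkQ_surjective (I ^ (n + 1)) (q i)
    exact ⟨a, funext ha⟩
  have hmk0 : ∀ n a, mk n a = 0 ↔ ∀ i, a i ∈ I ^ (n + 1) := fun n a => by
    rw [funext_iff]
    exact forall_congr' fun i => Submodule.Quotient.mk_eq_zero _
  have hπmk : ∀ n a b, mk n a = mk n b → π n (φ a) = π n (φ b) := fun n a b hab => by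
    rw [← sub_eq_zero, ← map_sub, ← map_sub]
    have hm : ∀ i, (a - b) i ∈ I ^ (n + 1) := (hmk0 n _).mp (by rw [map_sub, hab, sub_self])
    exact h.eq_zero_of_mem le_rfl (Submodule.smul_mono le_rfl le_top
      (Submodule.map_smul'' (I ^ (n + 1)) ⊤ φ ▸ Submodule.mem_map_of_mem (f := φ) (mem_smul_of_coords hm)))
  -- lifting a map out of a module killed by the power of `I`
  have hliftfree : ∀ n (ρ : M n → (Fin t → A) → Prop), (∀ y, ∃ a, ρ y a) →
      ∃ s : M n →ₗ[A] Q n, ∀ y, ∃ (m : ℕ) (c : Fin m → A) (ys : Fin m → M n) (as : Fin m → (Fin t → A)),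
        (∀ j, ρ (ys j) (as j)) ∧ y = ∑ j, c j • ys j ∧ s y = mk n (∑ j, c j • as j) := by
    intro n ρ hρ
    obtain ⟨m, i, r, hri⟩ := hproj n
    choose as has using fun j => hρ (r (Pi.single j 1))
    let w : (Fin m → A ⧸ I ^ (n + 1)) →ₗ[A] Q n := LinearMap.lsum A _ A fun j =>
      (I ^ (n + 1)).liftQ (LinearMap.toSpanSingleton A (Q n) (mk n (as j))) fun x hx => by
        rw [LinearMap.mem_ker, LinearMap.toSpanSingleton_apply, ← map_smul, hmk0]
        exact fun k => Ideal.mul_mem_right _ _ hx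
    refine ⟨w ∘ₗ i, fun y => ?_⟩
    choose c hc using fun j => Submodule.mkQ_surjective (I ^ (n + 1)) (i y j)
    refine ⟨m, c, fun j => r (Pi.single j 1), as, has, ?_, ?_⟩
    · conv_lhs => rw [show y = r (i y) from (congr($hri y)).symm]
      rw [show i y = ∑ j, c j • Pi.single j (1 : A ⧸ I ^ (n + 1)) from funext fun j => by
        rw [Finset.sum_apply, Finset.sum_eq_single j (fun b _ hb => by simp [Pi.single_eq_of_ne hb.symm])
          (by simp), Pi.smul_apply, Pi.single_eq_same, ← hc j]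
        show Submodule.Quotient.mk (c j) = c j • (1 : A ⧸ I ^ (n + 1))
        rw [Algebra.smul_def, mul_one]
        rfl, map_sum]
      simp only [map_smul]
    · show w (i y) = _
      rw [map_sum]
      simp only [w, LinearMap.lsum_apply, LinearMap.sum_apply]
      refine Finset.sum_congr rfl fun j _ => ?_
      rw [LinearMap.comp_apply, LinearMap.proj_apply, ← hc j, map_smul]
      rfl
  have base : ∃ s : M 0 →ₗ[A] Q 0, ∀ y a, mk 0 a = s y → π 0 (φ a) = y := by
    obtain ⟨s, hs⟩ := hliftfree 0 (fun y a => π 0 (φ a) = y) fun y => LinearMap.range_eq_top.mp hr0 y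
    refine ⟨s, fun y a ha => ?_⟩
    obtain ⟨m, c, ys, as, has, hy, hsy⟩ := hs y
    rw [hπmk 0 a _ (ha.trans hsy), hy, map_sum, map_sum]
    simp only [map_smul]
    exact Finset.sum_congr rfl fun j _ => by rw [has j]
  have next' : ∀ n (s : M n →ₗ[A] Q n), (∀ y a, mk n a = s y → π n (φ a) = y) →
      ∃ s' : M (n + 1) →ₗ[A] Q (n + 1), (∀ y a, mk (n + 1) a = s' y → π (n + 1) (φ a) = y) ∧
        ∀ y a, mk (n + 1) a = s' y → mk n a = s (f n y) := by
    intro n s hs
    obtain ⟨s', hs'⟩ := hliftfree (n + 1)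
      (fun y a => π (n + 1) (φ a) = y ∧ mk n a = s (f n y)) fun y => by
        obtain ⟨a, ha⟩ := hmk n (s (f n y))
        have h1 : y - π (n + 1) (φ a) ∈ I ^ (n + 1) • (⊤ : Submodule A (M (n + 1))) := by
          rw [← h.hker n, LinearMap.mem_ker, map_sub, h.comm, hs _ a ha, sub_self]
        rw [← h.range_eq_top φ hr0 (n + 1), ← Submodule.map_top, ← Submodule.map_smul''] at h1
        obtain ⟨b, hb, hby⟩ := h1
        refine ⟨a + b, ?_, ?_⟩
        · rw [map_add, map_add, show π (n + 1) (φ b) = _ from hby, add_sub_cancel]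
        · rw [map_add, (hmk0 n b).mpr (exists_coords hb), add_zero, ha]
    refine ⟨s', fun y a ha => ?_, fun y a ha => ?_⟩ <;> obtain ⟨m, c, ys, as, has, hy, hsy⟩ := hs' y
    · rw [hπmk (n + 1) a _ (ha.trans hsy), hy, map_sum, map_sum]
      simp only [map_smul]
      exact Finset.sum_congr rfl fun j _ => by rw [(has j).1]
    · have hd : ∀ k, (a - ∑ j, c j • as j) k ∈ I ^ (n + 1 + 1) :=
        (hmk0 (n + 1) _).mp (by rw [map_sub, ha, hsy, sub_self])
      have h2 : mk n a = mk n (∑ j, c j • as j) := by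
        rw [← sub_eq_zero, ← map_sub, hmk0]
        exact fun k => Ideal.pow_le_pow_right (Nat.le_succ _) (hd k)
      rw [h2, hy, map_sum, map_sum, map_sum]
      simp only [map_smul]
      exact Finset.sum_congr rfl fun j _ => by rw [(has j).2]
  choose s' hs'1 hs'2 using next'
  let S : ∀ n, {s : M n →ₗ[A] Q n // ∀ y a, mk n a = s y → π n (φ a) = y} := fun n =>
    Nat.rec ⟨base.choose, base.choose_spec⟩ (fun n ih => ⟨s' n ih.1 ih.2, hs'1 n ih.1 ih.2⟩) n
  have hsec : ∀ y : L, ∃! a : Fin t → A, ∀ n, mk n a = (S n).1 (π n y) := by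
    intro y
    choose a ha using fun n => hmk n ((S n).1 (π n y))
    have hd : ∀ i n, a (n + 1) i - a n i ∈ I ^ (1 + n) := fun i n => by
      have := hs'2 n (S n).1 (S n).2 (π (n + 1) y) (a (n + 1)) (ha (n + 1))
      rw [h.comm, ← ha n, ← sub_eq_zero, ← map_sub, hmk0] at this
      rw [add_comm]
      exact this i
    choose l hl using fun i => exists_limit (I := I) (fun n => a n i) 1 (hd i)
    refine ⟨l, fun n => ?_, fun b hb => funext fun i => ?_⟩
    · rw [← ha n, ← sub_eq_zero, ← map_sub, hmk0]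
      exact fun i => by rw [add_comm n 1]; exact hl i n
    · refine sub_eq_zero.mp (IsHausdorff.haus' (I := I) _ fun n => ?_)
      rw [SModEq.zero, smul_eq_mul, Ideal.mul_top]
      rcases n with _ | n
      · simp
      · have h1 := (hmk0 n (b - a n)).mp (by rw [map_sub, hb n, ha n, sub_self]) i
        rw [Pi.sub_apply] at h1
        have h2 := sub_mem h1 (hl i n |> fun h => (add_comm 1 n) ▸ h)
        rwa [sub_sub_sub_cancel_right] at h2
  choose σ hσ hσu using hsec
  let σl : L →ₗ[A] (Fin t → A) :=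
    { toFun := σ
      map_add' := fun y z => (hσu (y + z) _ fun n => by simp only [map_add, hσ]).symm
      map_smul' := fun c y => (hσu (c • y) _ fun n => by simp only [map_smul, hσ, RingHom.id_apply]).symm }
  refine Module.Projective.of_split σl φ (LinearMap.ext fun y => ?_)
  refine sub_eq_zero.mp (h.hinj _ fun n => ?_)
  rw [map_sub, sub_eq_zero]
  exact (S n).2 _ _ (hσ y n)

end Groth.Agent.AdicLimH7
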